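import Cfsg.Agent.Lib.FrobC.SL23
import Cfsg.Agent.Lib.Comp.FStar
import Cfsg.Agent.Lib.SL2.Klein
import Cfsg.Agent.Lib.LocStruct.Conj
import Cfsg.Agent.S5390

/-! # The centraliser of an involution in `U₄(3)`, abstractly -/

set_option autoImplicit false
set_option linter.unusedSectionVars false

namespace H20.L5.U3Q

open Subgroup Cfsg H69 H82 H29

theorem f1 : ∀ A : SL23, A ^ 4 = 1 ∨ (A * A) ^ 3 = 1 := by decide +kernel
theorem f2 : ∀ A : SL23, A ^ 4 = 1 → ∀ B : SL23, B ^ 4 = 1 → (A * B) ^ 4 = 1 := by decide +kernel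
theorem f3 : ∀ A : SL23, A * A = -1 → ∀ B : SL23, B * B = -1 → ∃ C, C * A * C⁻¹ = B := by
  decide +kernel
theorem f4 : ∀ h : SL23, h * h = -1 → ∀ A : SL23, A * h = h * A → ∃ i : Fin 4, A = h ^ i.val := by
  decide +kernel
theorem f5 : ∀ A : SL23, A ^ 4 = 1 → A = 1 ∨ A = -1 ∨ A * A = -1 := by decide +kernel
set_option synthInstance.maxSize 1000 in
theorem f6 : ∀ h : SL23, h * h = -1 → ∀ n : SL23, n * n = -1 → n * h = h⁻¹ * n →
    (∀ A, A * h = h * A → A * (h⁻¹ * n) * A⁻¹ ≠ n) ∧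
    tx * h * tx⁻¹ * n⁻¹ * h = h * (tx * h * tx⁻¹ * n⁻¹) ∧
    ∀ A, A ^ 4 = 1 → A * h = h * A ∨ A * h * A⁻¹ = h⁻¹ ∧ A * n⁻¹ * h = h * (A * n⁻¹) := by
  decide +kernel
theorem f7 : ∀ h : SL23, h * h = -1 → ∀ U A : SL23, (tx * (A * U⁻¹ * A⁻¹)) ^ 4 = 1 →
    U * h * U⁻¹ ≠ h⁻¹ * (tx * h * tx⁻¹) := by decide +kernel
theorem f8 : ∀ h : SL23, h * h = -1 → h ≠ 1 ∧ h ≠ -1 ∧ h ^ 4 = 1 ∧ h⁻¹ ^ 4 = 1 ∧
    h⁻¹ * h⁻¹ = -1 ∧ h * h ≠ 1 ∧ h⁻¹ ≠ h ∧ h⁻¹ = -h ∧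
    ∀ i j : Fin 4, (h ^ i.val * h ^ i.val = 1 ∧ h ^ j.val * h ^ j.val = 1 ∨
      h ^ i.val * h ^ i.val = -1 ∧ h ^ j.val * h ^ j.val = -1) →
      ∃ a b : Fin 2, h ^ i.val = (-1) ^ a.val * h⁻¹ ^ b.val ∧ h ^ j.val = h ^ b.val ∨
        h ^ i.val = -((-1) ^ a.val * h⁻¹ ^ b.val) ∧ h ^ j.val = -h ^ b.val := by
  decide +kernel
theorem f9 : ∀ A : SL23, ∃ B C : SL23, B ^ 3 = 1 ∧ C ^ 3 = 1 ∧ (A = B * C ∨ A = (B * C) ^ 2) := by
  decide +kernel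

/-- The quaternion subgroup. -/
def Q0 : Subgroup SL23 where
  carrier := {A | A ^ 4 = 1}
  one_mem' := one_pow 4
  mul_mem' := fun ha hb => f2 _ ha _ hb
  inv_mem' := fun ha => by rw [Set.mem_ofPred_eq, inv_pow, ha, inv_one]

variable {H : Type} [Group H]

/-- `g` conjugates the image of `a` into the image of `b`. -/
def Mv (g : H) (a b : SL23 →* H) : Prop := ∀ A, ∃ B, g * a A * g⁻¹ = b B

theorem eqns_U3Q0 : True := by
  have := @Mv.eq_1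
  have := @Q0.eq_1
  trivial

theorem Mv.mul {g g' : H} {a b c : SL23 →* H} (h : Mv g b c) (h' : Mv g' a b) :
    Mv (g * g') a c := fun A => by
  obtain ⟨B, e⟩ := h' A
  obtain ⟨C, e'⟩ := h B
  exact ⟨C, by rw [← e', ← e]; group⟩

/-- The configuration. -/
structure Cf (k l : SL23 →* H) (h n : SL23) (d w γ : H) : Prop where
  ik : Function.Injective k
  il : Function.Injective l
  cm : ∀ A B, k A * l B = l B * k A
  zz : l (-1) = k (-1)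
  inf : ∀ A B, k A = l B → A = 1 ∨ A = -1
  hh : h * h = -1
  nn : n * n = -1
  nh : n * h = h⁻¹ * n
  dk : Mv d k k
  dl : Mv d l l
  wk : Mv w k l
  wl : Mv w l k
  d1 : k h * d = d * k h
  d2 : l h * d = d * l h
  d3 : k n * d * (k n)⁻¹ = k h * d
  d4 : l n * d * (l n)⁻¹ = d * l h
  dd : k h * (d * d) = l h
  g1 : γ * d * γ⁻¹ = (k h)⁻¹
  g2 : γ * k h * γ⁻¹ = d⁻¹
  cases : ∀ g, g ∈ centralizer {k (-1)} ↔ ∃ A B r, (r = 1 ∨ r = d ∨ r = w ∨ r = d * w) ∧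
    g = k A * l B * r
  card : Nat.card (centralizer {k (-1)} : Subgroup H) = 1152

namespace Cf

variable {k l : SL23 →* H} {h n : SL23} {d w γ : H} (c : Cf k l h n d w γ)
include c

theorem z2 : k (-1) * k (-1) = 1 := by rw [← map_mul, neg_mul_neg, one_mul, map_one]
theorem z1 : k (-1) ≠ 1 := fun e => absurd (c.ik (e.trans (map_one k).symm)) (by decide +kernel)

theorem mul (A B A' B' : SL23) : k A * l B * (k A' * l B') = k (A * A') * l (B * B') := by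
  rw [map_mul, map_mul, mul_assoc, ← mul_assoc (l B), ← c.cm]; simp only [mul_assoc]

theorem pow (A B : SL23) (m : ℕ) : (k A * l B) ^ m = k (A ^ m) * l (B ^ m) := by
  rw [Commute.mul_pow (c.cm A B), map_pow, map_pow]

theorem inv (A B : SL23) : (k A * l B)⁻¹ = k A⁻¹ * l B⁻¹ := by
  rw [mul_inv_rev, ← map_inv, ← map_inv, c.cm]

theorem neg (A B : SL23) : k (-A) * l (-B) = k A * l B := by
  rw [← mul_neg_one A, ← mul_neg_one B, ← c.mul, c.zz, c.z2, mul_one]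

theorem eq {A B A' B' : SL23} (e : k A * l B = k A' * l B') :
    A = A' ∧ B = B' ∨ A = -A' ∧ B = -B' := by
  have : k (A'⁻¹ * A) = l (B' * B⁻¹) := by
    rw [map_mul, map_mul, map_inv, map_inv, inv_mul_eq_iff_eq_mul, ← mul_assoc, ← e,
      mul_inv_cancel_right]
  rcases c.inf _ _ this with h | h
  · obtain rfl := inv_mul_eq_one.1 h
    exact Or.inl ⟨rfl, c.il (mul_left_cancel e)⟩
  · rw [inv_mul_eq_iff_eq_mul, mul_neg_one] at h
    rw [h, ← c.neg A'] at e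
    exact Or.inr ⟨h, c.il (mul_left_cancel e)⟩

theorem eq1 {A B : SL23} (e : k A * l B = 1) : A = 1 ∧ B = 1 ∨ A = -1 ∧ B = -1 :=
  c.eq (by rw [e, map_one, map_one, mul_one])

theorem two {A B : SL23} {j : ℕ} (e : (k A * l B) ^ 2 ^ j = 1) : A ^ 4 = 1 ∧ B ^ 4 = 1 := by
  have key : ∀ A : SL23, A ^ 2 ^ j = 1 ∨ A ^ 2 ^ j = -1 → A ^ 4 = 1 := fun A h =>
    (f1 A).elim id fun h3 => by
      have h2 : (A * A) ^ 2 ^ j = 1 := by
        rw [(Commute.refl A).mul_pow]; rcases h with h | h <;> simp [h]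
      have := Nat.eq_one_of_dvd_coprimes (Nat.Coprime.pow_right j (by decide : Nat.Coprime 3 2))
        (orderOf_dvd_of_pow_eq_one h3) (orderOf_dvd_of_pow_eq_one h2)
      rw [show A ^ 4 = A * A * (A * A) by simp only [pow_succ, pow_zero, one_mul, mul_assoc],
        orderOf_eq_one_iff.1 this, one_mul]
  rw [c.pow] at e
  exact ⟨key A ((c.eq1 e).imp And.left And.left), key B ((c.eq1 e).imp And.right And.right)⟩

theorem memN {g : H} : g ∈ k.range ⊔ l.range ↔ ∃ A B, g = k A * l B := by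
  refine ⟨fun hg => ?_, by rintro ⟨A, B, rfl⟩; exact mul_mem_sup ⟨A, rfl⟩ ⟨B, rfl⟩⟩
  have cm : ∀ A B, Commute (k A) (l B) := c.cm
  have : k.range ⊔ l.range ≤ (MonoidHom.noncommCoprod k l cm).range :=
    sup_le (by rintro _ ⟨A, rfl⟩; exact ⟨(A, 1), by simp⟩) (by rintro _ ⟨A, rfl⟩; exact ⟨(1, A), by simp⟩)
  obtain ⟨⟨A, B⟩, e⟩ := this hg
  exact ⟨A, B, e.symm⟩

theorem memQ {g : H} : g ∈ Q0.map k ⊔ Q0.map l ↔ ∃ A B, A ^ 4 = 1 ∧ B ^ 4 = 1 ∧ g = k A * l B := by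
  refine ⟨fun hg => ?_, by
    rintro ⟨A, B, h1, h2, rfl⟩; exact mul_mem_sup ⟨A, h1, rfl⟩ ⟨B, h2, rfl⟩⟩
  have cm : ∀ A B, Commute (k A) (l B) := c.cm
  have : Q0.map k ⊔ Q0.map l ≤ (Q0.prod Q0).map (MonoidHom.noncommCoprod k l cm) :=
    sup_le (by rintro _ ⟨A, h, rfl⟩; exact ⟨(A, 1), ⟨h, one_mem _⟩, by simp⟩)
      (by rintro _ ⟨A, h, rfl⟩; exact ⟨(1, A), ⟨one_mem _, h⟩, by simp⟩)
  obtain ⟨⟨A, B⟩, h, e⟩ := this hg
  exact ⟨A, B, h.1, h.2, e.symm⟩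

theorem Q4 {g : H} (hg : g ∈ Q0.map k ⊔ Q0.map l) : g ^ 2 ^ 2 = 1 := by
  obtain ⟨A, B, h1, h2, rfl⟩ := c.memQ.1 hg
  rw [c.pow, show 2 ^ 2 = 4 from rfl, h1, h2, map_one, map_one, mul_one]

theorem QN {g : H} (hg : g ∈ Q0.map k ⊔ Q0.map l) : g ∈ k.range ⊔ l.range :=
  sup_le_sup (map_le_range _ _) (map_le_range _ _) hg

theorem toQ {g : H} (hg : g ∈ k.range ⊔ l.range) {j : ℕ} (e : g ^ 2 ^ j = 1) :
    g ∈ Q0.map k ⊔ Q0.map l := by
  obtain ⟨A, B, rfl⟩ := c.memN.1 hg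
  exact c.memQ.2 ⟨A, B, (c.two e).1, (c.two e).2, rfl⟩

theorem NC : k.range ⊔ l.range ≤ centralizer {k (-1)} := fun g hg => by
  obtain ⟨A, B, rfl⟩ := c.memN.1 hg
  exact (c.cases _).2 ⟨A, B, 1, Or.inl rfl, (mul_one _).symm⟩

theorem dC : d ∈ centralizer {k (-1)} := (c.cases _).2 ⟨1, 1, d, by simp, by simp⟩

theorem t_eq : d * d = k h⁻¹ * l h := by rw [map_inv, ← c.dd, inv_mul_cancel_left]

theorem ck (A B X : SL23) : k A * l B * k X * (k A * l B)⁻¹ = k (A * X * A⁻¹) := by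
  rw [c.cm A, mul_assoc (l B), ← map_mul, mul_inv_rev, ← c.cm, ← map_inv k, map_mul k (A * X),
    mul_assoc, ← mul_assoc (l B), ← c.cm, mul_assoc, mul_inv_cancel, mul_one]

theorem cl (A B X : SL23) : k A * l B * l X * (k A * l B)⁻¹ = l (B * X * B⁻¹) := by
  rw [mul_inv_rev, mul_assoc (k A), mul_assoc, ← mul_assoc _ (l B)⁻¹, ← map_inv, ← map_mul, ← map_mul,
    ← mul_assoc, c.cm, mul_inv_cancel_right]

theorem typ {g : H} (hg : g ∈ centralizer {k (-1)}) :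
    ((Mv g k k ∧ Mv g l l) ∧ ∃ A B, g = k A * l B ∨ g = k A * l B * d) ∨ (Mv g k l ∧ Mv g l k) := by
  obtain ⟨A, B, r, hr, rfl⟩ := (c.cases g).1 hg
  have h1 : Mv (k A * l B) k k := fun X => ⟨_, c.ck A B X⟩
  have h2 : Mv (k A * l B) l l := fun X => ⟨_, c.cl A B X⟩
  rcases hr with rfl | rfl | rfl | rfl
  · rw [mul_one]; exact Or.inl ⟨⟨h1, h2⟩, A, B, Or.inl rfl⟩
  · exact Or.inl ⟨⟨h1.mul c.dk, h2.mul c.dl⟩, A, B, Or.inr rfl⟩
  · exact Or.inr ⟨h2.mul c.wk, h1.mul c.wl⟩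
  · exact Or.inr ⟨h2.mul (c.dl.mul c.wk), h1.mul (c.dk.mul c.wl)⟩

theorem nrmN {g x : H} (hg : g ∈ centralizer {k (-1)}) (hx : x ∈ k.range ⊔ l.range) :
    g * x * g⁻¹ ∈ k.range ⊔ l.range := by
  obtain ⟨A, B, rfl⟩ := c.memN.1 hx
  rw [← conj_mul]
  rcases c.typ hg with ⟨⟨h1, h2⟩, -⟩ | ⟨h1, h2⟩ <;> obtain ⟨A', e1⟩ := h1 A <;>
    obtain ⟨B', e2⟩ := h2 B <;> rw [e1, e2]
  · exact mul_mem_sup ⟨_, rfl⟩ ⟨_, rfl⟩
  · exact mul_mem (mem_sup_right ⟨_, rfl⟩) (mem_sup_left ⟨_, rfl⟩)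

theorem nrmQ {g x : H} (hg : g ∈ centralizer {k (-1)}) (hx : x ∈ Q0.map k ⊔ Q0.map l) :
    g * x * g⁻¹ ∈ Q0.map k ⊔ Q0.map l :=
  c.toQ (c.nrmN hg (c.QN hx)) (j := 2) (by rw [conj_pow, c.Q4 hx, mul_one, mul_inv_cancel])

theorem pow4 {g : H} (hg : g ∈ centralizer {k (-1)}) : g ^ 4 ∈ k.range ⊔ l.range := by
  have h1 : Mv (g * g) k k := (c.typ hg).elim (fun h => h.1.1.mul h.1.1) fun h => h.2.mul h.1
  rw [show g ^ 4 = g * g * (g * g) by simp only [pow_succ, pow_zero, one_mul, mul_assoc]]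
  rcases c.typ (mul_mem hg hg) with ⟨-, A, B, e | e⟩ | ⟨h2, -⟩
  · exact e ▸ mul_mem (c.memN.2 ⟨A, B, rfl⟩) (c.memN.2 ⟨A, B, rfl⟩)
  · rw [e, show k A * l B * d * (k A * l B * d) = k A * l B * (d * (k A * l B) * d⁻¹) * (d * d) by group]
    exact mul_mem (mul_mem (c.memN.2 ⟨A, B, rfl⟩) (c.nrmN c.dC (c.memN.2 ⟨A, B, rfl⟩)))
      (c.memN.2 ⟨_, _, c.t_eq⟩)
  · obtain ⟨A, e1⟩ := h1 h
    obtain ⟨B, e2⟩ := h2 h
    have : A * A = 1 := by rcases c.inf _ _ (e1.symm.trans e2) with h | h <;> simp [h]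
    have := congrArg k this
    rw [map_mul, ← e1, conj_mul, ← map_mul, c.hh, map_one, conj_eq_one_iff] at this
    exact absurd this c.z1

theorem dk0 {A : SL23} (e : A * h = h * A) : k A * d = d * k A := by
  obtain ⟨i, rfl⟩ := f4 h c.hh A e
  rw [map_pow]; exact (Commute.pow_left c.d1 _).eq

theorem dl0 {A : SL23} (e : A * h = h * A) : l A * d = d * l A := by
  obtain ⟨i, rfl⟩ := f4 h c.hh A e
  rw [map_pow]; exact (Commute.pow_left c.d2 _).eq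

theorem dn : d * k n * d⁻¹ = k (h⁻¹ * n) := by
  rw [map_mul, map_inv, eq_inv_mul_iff_mul_eq, ← mul_assoc, ← mul_assoc, ← c.d3]; group

theorem cenQ {g : H} (hg : g ∈ centralizer {k (-1)})
    (hc : ∀ x ∈ Q0.map k ⊔ Q0.map l, x * g = g * x) : g ∈ Q0.map k ⊔ Q0.map l := by
  obtain ⟨h1, h2, h4, -⟩ := f8 h c.hh
  have a1 : g * k h * g⁻¹ = k h := by
    rw [← hc _ (mem_sup_left ⟨h, h4, rfl⟩), mul_inv_cancel_right]
  have a2 : g * l h * g⁻¹ = l h := by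
    rw [← hc _ (mem_sup_right ⟨h, h4, rfl⟩), mul_inv_cancel_right]
  have a3 : g * k n * g⁻¹ = k n := by
    rw [← hc _ (mem_sup_left ⟨n, (f8 n c.nn).2.2.1, rfl⟩), mul_inv_cancel_right]
  have p : ∀ A, A * h * A⁻¹ = h → A ^ 4 = 1 := fun A e => by
    obtain ⟨i, rfl⟩ := f4 h c.hh A (mul_inv_eq_iff_eq_mul.1 e)
    rw [← pow_mul, mul_comm, pow_mul, h4, one_pow]
  rcases c.typ hg with ⟨-, A, B, rfl | rfl⟩ | ⟨e, -⟩
  · rw [c.ck] at a1
    rw [c.cl] at a2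
    exact c.memQ.2 ⟨A, B, p A (c.ik a1), p B (c.il a2), rfl⟩
  · rw [mul_assoc _ d, ← c.d1, mul_inv_rev, ← mul_assoc, ← mul_assoc, mul_inv_cancel_right, c.ck] at a1
    rw [show k A * l B * d * k n * (k A * l B * d)⁻¹ = k A * l B * (d * k n * d⁻¹) * (k A * l B)⁻¹ by
      group, c.dn, c.ck] at a3
    exact absurd (c.ik a3) ((f6 h c.hh n c.nn c.nh).1 A (mul_inv_eq_iff_eq_mul.1 (c.ik a1)))
  · obtain ⟨B, e⟩ := e h
    exact ((c.inf _ _ (a1.symm.trans e)).elim h1 h2).elim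

theorem core {g : H} (hg : g ∈ centralizer {k (-1)}) {i j : ℕ} (h1 : g ^ 2 ^ i = 1)
    (h2 : (k tx * g * (k tx)⁻¹ * g⁻¹) ^ 2 ^ j = 1) : g ∈ Q0.map k ⊔ Q0.map l := by
  rw [mul_assoc (k tx), mul_assoc (k tx), ← map_inv] at h2
  rcases c.typ hg with ⟨-, A, B, rfl | rfl⟩ | ⟨e, -⟩
  · exact c.toQ (c.memN.2 ⟨A, B, rfl⟩) h1
  · obtain ⟨U, e⟩ := c.dk tx
    have e' : d * k tx⁻¹ * d⁻¹ = k U⁻¹ := by rw [map_inv, map_inv, ← e]; group
    rw [show k A * l B * d * k tx⁻¹ * (k A * l B * d)⁻¹ =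
      k A * l B * (d * k tx⁻¹ * d⁻¹) * (k A * l B)⁻¹ by group, e', c.ck, ← map_mul] at h2
    refine absurd (c.ik ?_) (f7 h c.hh U A (c.two (B := 1) (by rwa [map_one, mul_one])).1)
    have y := (f6 h c.hh n c.nn c.nh).2.1
    have : d * k (tx * h * tx⁻¹ * n⁻¹ * n) * d⁻¹ = k (tx * h * tx⁻¹ * n⁻¹ * (h⁻¹ * n)) := by
      rw [map_mul, map_mul k _ (h⁻¹ * n), ← c.dn, ← mul_assoc, ← c.dk0 y]; group
    rw [← mul_assoc _ h⁻¹, (show Commute _ h from y).inv_right.eq, mul_assoc h⁻¹,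
      inv_mul_cancel_right] at this
    rw [← this, map_mul, map_mul, map_mul, map_mul, ← e, ← e', ← conj_mul, ← conj_mul, ← c.d1,
      mul_inv_cancel_right]
  · obtain ⟨B, e⟩ := e tx⁻¹
    rw [e] at h2
    exact absurd (c.two h2).1 (by decide +kernel)

theorem pair : IsPair (k (-1)) (d * d) := by
  obtain ⟨h1, h2, -, -, h5, -⟩ := f8 h c.hh
  refine ⟨c.z2, c.z1, ?_, fun e => ?_, fun e => ?_, (mul_mem c.dC c.dC _ rfl)⟩
  · rw [c.t_eq, c.mul, h5, c.hh, c.zz, c.z2]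
  · exact (c.eq1 (c.t_eq ▸ e)).elim (fun e => h1 e.2) fun e => h2 e.2
  · rw [c.t_eq, ← mul_one (k _), ← map_one l] at e
    exact (c.eq e.symm).elim (fun e => h1 e.2) fun e => h2 e.2

theorem gz : γ * k (-1) * γ⁻¹ = d * d := by
  rw [← c.hh, map_mul, conj_mul.symm, c.g2, ← mul_inv_rev, inv_eq_of_mul_eq_one_right c.pair.sq₂]

theorem gt : γ * (d * d) * γ⁻¹ = k (-1) := by
  rw [conj_mul.symm, c.g1, ← mul_inv_rev, ← map_mul, c.hh, inv_eq_of_mul_eq_one_right c.z2]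

theorem tQ : d * d ∈ Q0.map k ⊔ Q0.map l :=
  c.memQ.2 ⟨_, _, (f8 h c.hh).2.2.2.1, (f8 h c.hh).2.2.1, c.t_eq⟩

theorem zQ : k (-1) ∈ Q0.map k ⊔ Q0.map l := 
  mem_sup_left ⟨-1, (by decide +kernel : (-1 : SL23) ^ 4 = 1), rfl⟩

/-- The centraliser of `d * d` in `Q`. -/
theorem cent {x : H} (hx : x ∈ Q0.map k ⊔ Q0.map l) (e : x * (d * d) * x⁻¹ = d * d) :
    (∃ i j : Fin 4, x = k (h ^ i.val) * l (h ^ j.val)) ∧ x * d * x⁻¹ = d ∨
      x * k h * x⁻¹ = (k h)⁻¹ ∧ x * d * x⁻¹ = d * (d * d) * k (-1) := by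
  obtain ⟨A, B, h1, h2, rfl⟩ := c.memQ.1 hx
  obtain ⟨-, -, -, -, -, -, h7, h8, -⟩ := f8 h c.hh
  have f := (f6 h c.hh n c.nn c.nh).2.2
  rw [c.t_eq, ← conj_mul, c.ck, c.cl, ← conj_inv] at e
  have e := c.eq e
  have nn : -h ≠ h := h8 ▸ h7
  rcases f A h1 with a | ⟨a, a'⟩ <;> rcases f B h2 with b | ⟨b, b'⟩
  · obtain ⟨i, hi⟩ := f4 h c.hh A a
    obtain ⟨j, hj⟩ := f4 h c.hh B b
    exact Or.inl ⟨⟨i, j, by rw [← hi, ← hj]⟩, by
      rw [mul_assoc (k A), c.dl0 b, ← mul_assoc, c.dk0 a, mul_assoc d, mul_inv_cancel_right]⟩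
  · rw [a, b, mul_inv_cancel_right, h8] at e
    exact (e.elim (fun e => nn e.2) fun e => nn (neg_injective e.1).symm).elim
  · rw [a, b, mul_inv_cancel_right, inv_inv, h8] at e
    exact (e.elim (fun e => nn e.1.symm) fun e => nn e.2.symm).elim
  · refine Or.inr ⟨by rw [c.ck, a, map_inv], ?_⟩
    have m : k n * l n * d * (k n * l n)⁻¹ = d * (d * d) * k (-1) := by
      rw [show k n * l n * d * (k n * l n)⁻¹ = k n * (l n * d * (l n)⁻¹) * (k n)⁻¹ by group, c.d4,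
        ← conj_mul, c.d3, c.cm n, mul_inv_cancel_right, ← c.dd, c.d1, ← c.hh, map_mul, mul_assoc d,
        ← mul_assoc (k h), (((Commute.mul_right c.d1 c.d1).mul_left
          (Commute.mul_right c.d1 c.d1))).eq, ← mul_assoc]
    have u : k (A * n⁻¹) * l (B * n⁻¹) * d = d * (k (A * n⁻¹) * l (B * n⁻¹)) := by
      rw [mul_assoc, c.dl0 b', ← mul_assoc, c.dk0 a', mul_assoc]
    have u' := (c.NC (c.memN.2 ⟨A * n⁻¹, B * n⁻¹, rfl⟩) _ rfl).symm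
    have : k A * l B = k (A * n⁻¹) * l (B * n⁻¹) * (k n * l n) := by
      rw [c.mul, inv_mul_cancel_right, inv_mul_cancel_right]
    rw [this]
    generalize k (A * n⁻¹) * l (B * n⁻¹) = y at u u'
    rw [show y * (k n * l n) * d * (y * (k n * l n))⁻¹ = y * (k n * l n * d * (k n * l n)⁻¹) * y⁻¹ by
      group, m, mul_inv_eq_iff_eq_mul]
    exact (((Commute.mul_right u (Commute.mul_right u u))).mul_right u').eq

theorem meet : (Q0.map k ⊔ Q0.map l) ⊓ (Q0.map k ⊔ Q0.map l) ^ᶜ γ = closure {k (-1), d * d} := by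
  refine le_antisymm ?_ ((closure_le _).2 ?_)
  · rintro _ ⟨hx, y, hy, rfl⟩
    change γ * y * γ⁻¹ ∈ _ at hx ⊢
    have sq : ∀ x ∈ Q0.map k ⊔ Q0.map l, x * x = 1 ∨ x * x = k (-1) := fun x hx => by
      obtain ⟨A, B, h1, h2, rfl⟩ := c.memQ.1 hx
      rw [c.mul]
      rcases f5 A h1 with rfl | rfl | a <;> rcases f5 B h2 with rfl | rfl | b <;>
        simp [*, c.zz, c.z2]
    have xx : γ * y * γ⁻¹ * (γ * y * γ⁻¹) = 1 := (sq _ hx).resolve_right fun e => by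
      rw [conj_mul] at e
      rcases sq y hy with e' | e' <;> rw [e'] at e
      · exact c.z1 (by rw [← e, mul_one, mul_inv_cancel])
      · exact c.pair.ne (e.symm.trans c.gz)
    have yz : y * k (-1) = k (-1) * y := (c.NC (c.QN hy) _ rfl).symm
    have xz := (c.NC (c.QN hx) _ rfl).symm
    rw [← c.gt, conj_mul, conj_mul] at xz
    replace xz := mul_left_cancel (mul_right_cancel xz)
    rcases c.cent hx (by rw [← c.gz, conj_mul, yz]; group) with ⟨⟨i, j, e⟩, -⟩ | ⟨e, -⟩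
    · rw [e, c.mul] at xx
      obtain ⟨a, b, r⟩ := (f8 h c.hh).2.2.2.2.2.2.2.2 i j (c.eq1 xx)
      have : k (h ^ i.val) * l (h ^ j.val) = k (-1) ^ a.val * (d * d) ^ b.val := by
        rw [c.t_eq, c.pow, ← map_pow, ← mul_assoc, ← map_mul]
        rcases r with ⟨r1, r2⟩ | ⟨r1, r2⟩ <;> rw [r1, r2]
        exact c.neg _ _
      rw [e, this]
      exact mul_mem (pow_mem (subset_closure (by simp)) _) (pow_mem (subset_closure (by simp)) _)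
    · have e' : y * d * y⁻¹ = d⁻¹ := by
        have : γ * (y * d * y⁻¹) * γ⁻¹ = γ * d⁻¹ * γ⁻¹ := by
          rw [← conj_inv, c.g1, ← inv_inj, ← e, ← inv_inv (k h), ← c.g1]; group
        exact mul_left_cancel (mul_right_cancel this)
      have i : d⁻¹ = d * (d * d) := inv_eq_of_mul_eq_one_right (by
        rw [← mul_assoc]; exact c.pair.sq₂)
      rcases c.cent hy (mul_inv_eq_iff_eq_mul.2 xz) with ⟨-, e⟩ | ⟨-, e⟩ <;> rw [e', i] at e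
      · exact absurd (mul_eq_left.1 e) c.pair.ne₂
      · exact absurd (left_eq_mul.1 e) c.z1
  · rintro _ (rfl | rfl)
    · exact ⟨c.zQ, c.gt ▸ cj_mem γ c.tQ⟩
    · exact ⟨c.tQ, c.gz ▸ cj_mem γ c.zQ⟩

theorem qqg [Finite H] {g : H} (h1 : g * k (-1) * g⁻¹ ∈ Q0.map k ⊔ Q0.map l)
    (h2 : g * k (-1) * g⁻¹ ≠ k (-1)) :
    Nat.card ((Q0.map k ⊔ Q0.map l) ⊓ (Q0.map k ⊔ Q0.map l) ^ᶜ g : Subgroup H) = 4 := by
  obtain ⟨A, B, a, b, e⟩ := c.memQ.1 h1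
  have s : k (A * A) * l (B * B) = 1 := by rw [← c.mul, ← e, conj_mul, c.z2, mul_one, mul_inv_cancel]
  have h0 : k A * l B ≠ 1 := fun e' => c.z1 (conj_eq_one_iff.1 (e.trans e'))
  rw [e] at h2
  have s' : A * A = -1 ∧ B * B = -1 := (c.eq1 s).resolve_left fun s => by
    have p : ∀ A : SL23, A * A = 1 → A = 1 ∨ A = -1 := by decide +kernel
    rcases p A s.1 with rfl | rfl <;> rcases p B s.2 with rfl | rfl <;>
      simp [c.zz, c.z2] at h0 h2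
  obtain ⟨X, hX⟩ := f3 A s'.1 _ (f8 h c.hh).2.2.2.2.1
  obtain ⟨Y, hY⟩ := f3 B s'.2 _ c.hh
  have N : ∀ u ∈ centralizer {k (-1)}, (Q0.map k ⊔ Q0.map l) ^ᶜ u = Q0.map k ⊔ Q0.map l :=
    fun u hu => cj_eq_of_cj_le (by rintro _ ⟨x, hx, rfl⟩; exact c.nrmQ hu hx)
  have hu := c.NC (c.memN.2 ⟨X, Y, rfl⟩)
  have hc : γ⁻¹ * (k X * l Y * g) ∈ centralizer {k (-1)} := mem_centralizer_singleton_iff.2 (by
    have : k X * l Y * (g * k (-1) * g⁻¹) * (k X * l Y)⁻¹ = γ * k (-1) * γ⁻¹ := by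
      rw [e, c.gz, ← conj_mul, c.ck, c.cl, hX, hY, c.t_eq]
    calc _ = γ⁻¹ * (k X * l Y * (g * k (-1) * g⁻¹) * (k X * l Y)⁻¹) * (k X * l Y * g) := by group
      _ = _ := by rw [this]; group)
  rw [← card_cj _ (k X * l Y), cj_inf, N _ hu, cj_cj, ← mul_inv_cancel_left γ (k X * l Y * g),
    ← cj_cj, N _ hc, c.meet]
  exact c.pair.isKleinFour.card_four

theorem iso [Finite H] (K : Type) [Field K] [Fintype K] (hK : Fintype.card K = 9) :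
    Nonempty (H ≃* PSU 4 K 3) := by
  have l1 : k.range ≤ centralizer {k (-1)} := le_sup_left.trans c.NC
  have l2 : l.range ≤ centralizer {k (-1)} := le_sup_right.trans c.NC
  have lQ : Q0.map k ⊔ Q0.map l ≤ centralizer {k (-1)} := fun _ h => c.NC (c.QN h)
  have sp := (subgroupOf_sup l1 l2).symm
  have nQ : ((Q0.map k ⊔ Q0.map l).subgroupOf (centralizer {k (-1)})).Normal :=
    ⟨fun x hx g => c.nrmQ g.2 hx⟩
  have pQ : IsPGroup 2 ((Q0.map k ⊔ Q0.map l).subgroupOf (centralizer {k (-1)})) := fun x =>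
    ⟨2, Subtype.ext (Subtype.ext (c.Q4 x.2))⟩
  have hP : pCore 2 (centralizer {k (-1)} : Subgroup H) =
      (Q0.map k ⊔ Q0.map l).subgroupOf (centralizer {k (-1)}) := by
    refine le_antisymm (fun g hg => ?_) (H1.le_pCore pQ)
    obtain ⟨i, hi⟩ := H1.isPGroup_pCore ⟨g, hg⟩
    obtain ⟨j, hj⟩ := H1.isPGroup_pCore ⟨_, mul_mem ((inferInstance : (pCore 2 _).Normal).conj_mem
      g hg ⟨k tx, l1 ⟨_, rfl⟩⟩) (inv_mem hg)⟩
    exact c.core g.2 (congrArg (fun x => x.1.1) hi) (congrArg (fun x => x.1.1) hj)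
  have gen : ∀ f : SL23 →* H, ∀ lf : f.range ≤ centralizer {k (-1)},
      f.range.subgroupOf (centralizer {k (-1)}) ≤
        closure {x : (centralizer {k (-1)} : Subgroup H) | Odd (orderOf x)} := by
    rintro f lf ⟨x, hx⟩ ⟨A, rfl : f A = x⟩
    have o : ∀ B : SL23, B ^ 3 = 1 → (⟨f B, lf ⟨B, rfl⟩⟩ : (centralizer {k (-1)} : Subgroup H)) ∈
        closure {x : (centralizer {k (-1)} : Subgroup H) | Odd (orderOf x)} := fun B e =>
      subset_closure (Odd.of_dvd_nat (by decide : Odd 3) (orderOf_dvd_of_pow_eq_one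
        (Subtype.ext (by rw [coe_pow, ← map_pow, e, map_one, coe_one]))))
    obtain ⟨B, C, h1, h2, rfl | rfl⟩ := f9 A
    · convert mul_mem (o B h1) (o C h2) using 1
      exact Subtype.ext (map_mul ..)
    · convert pow_mem (mul_mem (o B h1) (o C h2)) 2 using 1
      exact Subtype.ext (by simp)
  have mN : ∀ x : ↥(k.range.subgroupOf (centralizer {k (-1)}) ⊔
      l.range.subgroupOf (centralizer {k (-1)})), ∃ A B, x.1.1 = k A * l B := fun x =>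
    c.memN.1 (sp.le x.2)
  refine Cfsg.Agent.S5390.result (k (-1)) (orderOf_eq_prime (by rw [pow_two, c.z2]) c.z1)
    (k.range.subgroupOf _) (l.range.subgroupOf _) (le_antisymm (sup_le (gen k l1) (gen l l2)) ?_)
    ⟨fun x ⟨X, hx⟩ g => ?_⟩ ⟨fun x ⟨X, hx⟩ g => ?_⟩
    ((subgroupOfEquivOfLe l1).trans (MonoidHom.ofInjective c.ik).symm)
    ((subgroupOfEquivOfLe l2).trans (MonoidHom.ofInjective c.il).symm) ?_
    ((Q0.map k ⊔ Q0.map l).subgroupOf _) (le_antisymm ?_ ?_) ?_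
    ⟨γ, ⟨c.gz ▸ lQ c.tQ, (c.gz ▸ c.tQ : γ * k (-1) * γ⁻¹ ∈ Q0.map k ⊔ Q0.map l)⟩, c.gz ▸ c.pair.ne.symm⟩
    c.card ?_ K hK
  · rw [sp, closure_le]
    intro x (hx : Odd (orderOf x))
    have h4 : x ^ 4 ∈ (k.range ⊔ l.range).subgroupOf (centralizer {k (-1)}) := c.pow4 x.2
    exact (zpowers_le.2 h4) (mem_zpowers_pow_iff.2 (by
      simpa using (Nat.Coprime.pow_left 2 (Nat.coprime_two_left.2 hx))))
  · obtain ⟨A, B, e⟩ := mN g
    exact ⟨A * X * A⁻¹, by rw [← c.ck A B, ← e, hx]; rfl⟩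
  · obtain ⟨A, B, e⟩ := mN g
    exact ⟨B * X * B⁻¹, by rw [← c.cl A B, ← e, hx]; rfl⟩
  · rw [subgroupOf, subgroupOf, ← comap_inf, ← subgroupOf,
      map_subgroupOf_eq_of_le (inf_le_left.trans l1)]
    refine le_antisymm ?_ (zpowers_le.2 ⟨⟨_, rfl⟩, _, c.zz⟩)
    rintro _ ⟨⟨A, rfl⟩, B, e⟩
    rcases c.inf _ _ e.symm with rfl | rfl
    exacts [map_one k ▸ one_mem _, mem_zpowers _]
  · intro x hx
    exact ⟨⟨x, sp.ge (c.QN hx)⟩, H1.le_pCore (pQ.comap_subtype) hx, rfl⟩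
  · rintro _ ⟨x, hx, rfl⟩
    obtain ⟨i, hi⟩ := H1.isPGroup_pCore ⟨x, hx⟩
    exact c.toQ (sp.le x.2) (congrArg (fun x => x.1.1.1) hi)
  · rw [← hP, H23.fStar_eq_pCore_iff, hP]
    exact fun g hg => c.cenQ g.2 fun x hx => congrArg Subtype.val (hg ⟨x, lQ hx⟩ hx)
  · rw [map_subgroupOf_eq_of_le lQ]
    exact fun g => c.qqg

end Cf

end H20.L5.U3Q
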