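import Cfsg.Agent.Lib.Syl2.GLWr
import Cfsg.Agent.Lib.Spor55.GLTwo

/-! # The Sylow 2-subgroup of `L₅(q)`: matrices -/

set_option autoImplicit false

namespace H20.L5.MOD

open Subgroup H82 Matrix
open scoped MatrixGroups

variable {F : Type*} [Field F]

theorem ex_wr : Nonempty (Wr SL(5, F) (GL (Fin 2) F) Unit (Fin 2)) := by
  obtain ⟨e⟩ : Nonempty (Fin 2 × Fin 2 ⊕ Unit ≃ Fin 5) := ⟨Fintype.equivOfCardEq (by simp)⟩
  let δ : (Fin 2 → GL (Fin 2) F) →* Fˣ :=
    (GeneralLinearGroup.det.comp (Pi.evalMonoidHom (fun _ => GL (Fin 2) F) 0) *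
      GeneralLinearGroup.det.comp (Pi.evalMonoidHom (fun _ => GL (Fin 2) F) 1))⁻¹
  have hδ : ∀ f, δ f = (∏ i, GeneralLinearGroup.det (f i))⁻¹ := fun f => by
    rw [Fin.prod_univ_two]; rfl
  let w1 : Wr (GL (Fin 5) F) (GL (Fin 2) F) Unit (Fin 2) :=
    { Φ := (glWr F e).Φ.comp (((MonoidHom.id _).prod ((GeneralLinearGroup.scalar Unit).comp δ)).comp
        (MonoidHom.fst _ _))
      τ := (glWr F e).τ
      conj := fun σ f c => by
        have : δ (fun i => f (σ⁻¹ i)) = δ f := by
          rw [hδ, hδ, Equiv.prod_comp σ⁻¹ fun i => GeneralLinearGroup.det (f i)]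
        change (glWr F e).τ σ * (glWr F e).Φ (f, GeneralLinearGroup.scalar Unit (δ f)) =
          (glWr F e).Φ (fun i => f (σ⁻¹ i), GeneralLinearGroup.scalar Unit (δ fun i => f (σ⁻¹ i))) * (glWr F e).τ σ
        rw [this, (glWr F e).conj]
      inj := fun x σ h => by
        obtain ⟨h1, h2⟩ := (glWr F e).inj _ σ h
        exact ⟨Prod.ext (Prod.ext_iff.1 h1).1 rfl, h2⟩ }
  refine ⟨w1.pull SpecialLinearGroup.toGL SpecialLinearGroup.toGL_injective (MonoidHom.id _)
    Function.injective_id (MonoidHom.id _) Function.injective_id (fun f c => ?_) fun σ => ?_⟩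
  · rw [H10.range_toGL, MonoidHom.mem_ker]
    change GeneralLinearGroup.det ((glWr F e).Φ (f, GeneralLinearGroup.scalar Unit (δ f))) = 1
    have : ∀ u : Fˣ, GeneralLinearGroup.det (GeneralLinearGroup.scalar Unit u) = u := fun u => by
      apply Units.ext
      simp [GeneralLinearGroup.scalar]
    rw [det_glWr_Phi, hδ, this, mul_inv_cancel]
  · rw [H10.range_toGL, MonoidHom.mem_ker]
    exact det_glWr_tau e (by simp) σ

theorem v2_psl [Finite F] (hq : Odd (Nat.card F)) :
    padicValNat 2 (Nat.card PSL(5, F)) = 2 * padicValNat 2 (Nat.card (GL (Fin 2) F)) + 1 ∧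
      Odd (Nat.card (center SL(5, F))) := by
  have h1 : 1 < Nat.card F := Finite.one_lt_card
  have ho : Odd (Nat.card (center SL(5, F))) := by
    rw [H10.card_center_SL, Fintype.card_fin]
    exact Odd.of_dvd_nat (by decide : Odd 5) (Nat.gcd_dvd_left _ _)
  refine ⟨?_, ho⟩
  have a := v2_card_GL hq (Fin 5)
  have b := v2_card_GL hq (Fin 2)
  rw [← H10.card_units_mul_card_SL, ← H10.card_center_mul_card_PSL, padicValNat.mul Nat.card_pos.ne'
    (mul_pos Nat.card_pos Nat.card_pos).ne', v2_odd_mul ho Nat.card_pos.ne', H10.card_units_field] at a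
  simp only [Fintype.card_fin, Nat.reduceDiv, Nat.reduceAdd, Nat.factorial_two, Nat.factorial_one,
    padicValNat.one, padicValNat_self] at a b
  omega

theorem ex_equiv [Finite F] (hq : Odd (Nat.card F)) (w : Wr SL(5, F) (GL (Fin 2) F) Unit (Fin 2))
    (D : Sylow 2 (GL (Fin 2) F)) (P : Sylow 2 PSL(5, F)) :
    Nonempty ((P : Subgroup PSL(5, F)) ≃* w.sub D ⊥ ⊤) := by
  obtain ⟨h1, h2⟩ := v2_psl hq
  have hT : Nat.card (⊤ : Subgroup (Equiv.Perm (Fin 2))) = 2 := by
    rw [card_top, Nat.card_eq_fintype_card]; rfl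
  have hc : Nat.card (w.sub D ⊥ ⊤) = 2 ^ (Nat.card PSL(5, F)).factorization 2 := by
    rw [w.card_sub, hT, D.card_eq_multiplicity, Nat.factorization_def _ Nat.prime_two,
      Nat.factorization_def _ Nat.prime_two, h1, card_bot, Nat.card_eq_fintype_card (α := Fin 2), Fintype.card_fin]
    ring
  let f := (QuotientGroup.mk' (center SL(5, F))).comp (w.sub D ⊥ ⊤).subtype
  have hf : Function.Injective f := by
    rw [injective_iff_map_eq_one]
    intro x hx
    have m : (x : SL(5, F)) ∈ center SL(5, F) := (QuotientGroup.eq_one_iff _).1 hx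
    have d1 : orderOf (x : SL(5, F)) ∣ Nat.card (center SL(5, F)) := orderOf_dvd_natCard _ m
    have d2 : orderOf x ∣ 2 ^ (Nat.card PSL(5, F)).factorization 2 := hc ▸ _root_.orderOf_dvd_natCard x
    rw [orderOf_coe] at d1
    exact orderOf_eq_one_iff.1 (Nat.eq_one_of_dvd_coprimes
      (Nat.Coprime.pow_right _ (Nat.coprime_two_right.2 h2)) d1 d2)
  have hr : Nat.card f.range = 2 ^ (Nat.card PSL(5, F)).factorization 2 := by
    rw [← hc, Nat.card_congr (MonoidHom.ofInjective hf).toEquiv]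
  exact ⟨(Sylow.equiv P (Sylow.ofCard f.range hr)).trans (MonoidHom.ofInjective hf).symm⟩

end H20.L5.MOD
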